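import Mathlib

/-!
Products of an elliptic class of `GL₂` with the class of the inverse.
-/

set_option autoImplicit false

namespace Cfsg.Agent.Lib.PSp4Class

open Matrix

variable {F : Type*} [Field F]

/-- The companion matrix. -/
def cmp (t d : F) : Matrix (Fin 2) (Fin 2) F := !![0, -d; 1, t]

/-- Not a scalar matrix. -/
def NonScalar (M : Matrix (Fin 2) (Fin 2) F) : Prop := M 0 1 ≠ 0 ∨ M 1 0 ≠ 0 ∨ M 0 0 ≠ M 1 1

theorem exists_companion {M : Matrix (Fin 2) (Fin 2) F} (h : NonScalar M) :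
    ∃ S : Matrix (Fin 2) (Fin 2) F, S.det ≠ 0 ∧ M * S = S * cmp M.trace M.det := by
  let S : F → F → Matrix (Fin 2) (Fin 2) F := fun x y => !![x, M 0 0 * x + M 0 1 * y; y, M 1 0 * x + M 1 1 * y]
  have hS : ∀ x y, M * S x y = S x y * cmp M.trace M.det := fun x y => by
    rw [Matrix.det_fin_two, Matrix.trace_fin_two]
    ext i j
    fin_cases i <;> fin_cases j <;> simp [S, cmp, Matrix.mul_apply, Fin.sum_univ_two] <;> ring
  by_cases h1 : M 1 0 ≠ 0
  · exact ⟨S 1 0, by simp [S, Matrix.det_fin_two, h1], hS 1 0⟩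
  by_cases h0 : M 0 1 ≠ 0
  · exact ⟨S 0 1, by simp [S, Matrix.det_fin_two, h0], hS 0 1⟩
  push Not at h1 h0
  have h2 : M 0 0 ≠ M 1 1 := (h.resolve_left (not_not.2 h0)).resolve_left (not_not.2 h1)
  refine ⟨S 1 1, ?_, hS 1 1⟩
  simp only [S, Matrix.det_fin_two, Matrix.of_apply, Matrix.cons_val', Matrix.cons_val_zero, Matrix.cons_val_one,
    Matrix.cons_val_fin_one]
  rw [h0, h1]
  intro he
  exact h2 (by linear_combination -he)

theorem exists_GL {S : Matrix (Fin 2) (Fin 2) F} (h : S.det ≠ 0) : ∃ g : GL (Fin 2) F, g.1 = S :=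
  ⟨((Matrix.isUnit_iff_isUnit_det S).2 (isUnit_iff_ne_zero.2 h)).unit, rfl⟩

/-- Non-scalar matrices with the same trace and determinant are similar. -/
theorem exists_similar {M N : GL (Fin 2) F} (hM : NonScalar M.1) (hN : NonScalar N.1)
    (ht : M.1.trace = N.1.trace) (hd : M.1.det = N.1.det) : ∃ S : GL (Fin 2) F, M = S * N * S⁻¹ := by
  obtain ⟨S, hS0, hS⟩ := exists_companion hM
  obtain ⟨T, hT0, hT⟩ := exists_companion hN
  obtain ⟨s, rfl⟩ := exists_GL hS0
  obtain ⟨u, rfl⟩ := exists_GL hT0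
  rw [← ht, ← hd] at hT
  refine ⟨s * u⁻¹, ?_⟩
  rw [_root_.mul_inv_rev, inv_inv, ← mul_assoc, eq_mul_inv_iff_mul_eq]
  refine Units.ext ?_
  show M.1 * s.1 = s.1 * (u⁻¹).1 * N.1 * u.1
  rw [hS, mul_assoc (s.1 * _) N.1, hT, ← mul_assoc, mul_assoc s.1, Units.inv_mul, mul_one]

theorem nonScalar_of_irred {M : Matrix (Fin 2) (Fin 2) F}
    (h : ∀ r : F, r * r - M.trace * r + M.det ≠ 0) : NonScalar M := by
  by_contra hc
  simp only [NonScalar, not_or, not_not] at hc
  apply h (M 0 0)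
  rw [Matrix.trace_fin_two, Matrix.det_fin_two, hc.1, hc.2.1, hc.2.2]
  ring

theorem exists_conic [Finite F] {a ν t : F} (ha : a ≠ 0) (ht : t ≠ 2) :
    ∃ w y : F, w * w + t * (w * y) + y * y - a * w - a * y + ν = 0 := by
  haveI := Fintype.ofFinite F
  by_cases htm : t = -2
  · have h2 : (2 : F) ≠ 0 := fun e => ht (by rw [htm, e, neg_zero])
    refine ⟨ν / (2 * a), ν / (2 * a), ?_⟩
    rw [htm]; field_simp; ring
  have ht2 : t + 2 ≠ 0 := fun e => htm (eq_neg_of_add_eq_zero_left e)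
  obtain ⟨z0, hz0⟩ : ∃ z : F, (t + 2) * z = a := ⟨a / (t + 2), by field_simp⟩
  have key : ∀ W Y, (W + z0) * (W + z0) + t * ((W + z0) * (Y + z0)) + (Y + z0) * (Y + z0) - a * (W + z0) -
      a * (Y + z0) + ν = W * W + t * (W * Y) + Y * Y + (ν - a * z0) := fun W Y => by
    linear_combination (W + Y + z0) * hz0
  suffices ∃ W Y : F, W * W + t * (W * Y) + Y * Y + (ν - a * z0) = 0 by
    obtain ⟨W, Y, h⟩ := this
    exact ⟨W + z0, Y + z0, (key W Y).trans h⟩
  by_cases h2 : (2 : F) = 0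
  · have hchar : ringChar F = 2 := (ringChar.eq_iff).2 (CharTwo.of_one_ne_zero_of_two_eq_zero one_ne_zero h2)
    obtain ⟨s, hs⟩ := FiniteField.isSquare_of_char_two hchar (-(ν - a * z0))
    exact ⟨s, 0, by linear_combination -hs⟩
  · have hk : 1 - t * t / 4 ≠ 0 := fun e => by
      have h4 : (4 : F) ≠ 0 := by
        intro e4; exact h2 (mul_self_eq_zero.1 (by linear_combination e4))
      field_simp at e
      exact (mul_ne_zero (sub_ne_zero.2 (Ne.symm ht)) ht2) (by linear_combination e)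
    have hodd : Fintype.card F % 2 = 1 := by
      refine FiniteField.odd_card_of_char_ne_two fun hc => h2 ?_
      have := ringChar.Nat.cast_ringChar (R := F)
      rw [hc] at this; exact_mod_cast this
    obtain ⟨u, y, huy⟩ := FiniteField.exists_root_sum_quadratic
      (f := Polynomial.C 1 * Polynomial.X ^ 2 + Polynomial.C (ν - a * z0))
      (g := Polynomial.C (1 - t * t / 4) * Polynomial.X ^ 2) (by compute_degree!)
      (by rw [Polynomial.degree_C_mul_X_pow 2 hk]; rfl) hodd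
    simp at huy
    refine ⟨u - t * y / 2, y, ?_⟩
    have h4 : (4 : F) = 2 * 2 := by norm_num
    rw [h4] at huy
    field_simp at huy ⊢
    linear_combination huy

/-- Every suitable element of determinant one is a product of a conjugate of `A` and a conjugate of `A⁻¹`. -/
theorem exists_product [Finite F] {A : GL (Fin 2) F} (hA : ∀ r : F, r * r - A.1.trace * r + A.1.det ≠ 0)
    (ha : A.1.trace ≠ 0) {h : GL (Fin 2) F} (hd : h.1.det = 1)
    (hh : h.1 = 1 ∨ (NonScalar h.1 ∧ h.1.trace ≠ 2)) :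
    ∃ S R : GL (Fin 2) F, h = (S * A * S⁻¹) * (R * A⁻¹ * R⁻¹) := by
  rcases hh with h1 | ⟨hns, ht⟩
  · exact ⟨1, 1, by rw [show h = 1 from Units.ext h1]; simp⟩
  set a := A.1.trace
  set ν := A.1.det
  set t := h.1.trace with htdef
  obtain ⟨w, y, hwy⟩ := exists_conic (ν := ν) ha ht
  -- an element of the class of `A` in companion coordinates for `h`
  let B' : Matrix (Fin 2) (Fin 2) F := !![w, y + t * w - a; y, a - w]
  have hBd : B'.det = ν := by
    rw [Matrix.det_fin_two_of]; linear_combination -hwy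
  have hνne : ν ≠ 0 := fun e => hA 0 (by show (0 : F) * 0 - a * 0 + ν = 0; rw [e]; ring)
  obtain ⟨T, hT0, hT⟩ := exists_companion hns
  obtain ⟨s, rfl⟩ := exists_GL hT0
  obtain ⟨b', hb'⟩ := exists_GL (show B'.det ≠ 0 by rw [hBd]; exact hνne)
  set B := s * b' * s⁻¹ with hB
  have hBm : B.1 = s.1 * B' * (s⁻¹).1 := by rw [hB, ← hb']; rfl
  have hsdet : s.1.det * (s⁻¹).1.det = 1 := by
    rw [← Matrix.det_mul, Units.mul_inv, Matrix.det_one]
  have hBdet : B.1.det = ν := by
    rw [hBm, Matrix.det_mul, Matrix.det_mul, hBd]; linear_combination ν * hsdet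
  have hBtr : B.1.trace = a := by
    rw [hBm, Matrix.trace_mul_cycle, Units.inv_mul, one_mul, Matrix.trace_fin_two_of]; ring
  have hBns : NonScalar B.1 := nonScalar_of_irred (by rw [hBdet, hBtr]; exact hA)
  have hAns : NonScalar A.1 := nonScalar_of_irred hA
  obtain ⟨S, hS⟩ := exists_similar hBns hAns hBtr hBdet
  -- the other factor
  set C := h⁻¹ * B with hC
  have hkinv : (h⁻¹).1 * s.1 = s.1 * !![t, 1; -1, 0] := by
    rw [← htdef, hd] at hT
    have e1 : cmp t 1 * !![t, 1; -1, 0] = 1 := by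
      ext i j; fin_cases i <;> fin_cases j <;> simp [cmp, Matrix.mul_apply, Fin.sum_univ_two]
    calc (h⁻¹).1 * s.1 = (h⁻¹).1 * (s.1 * (cmp t 1 * !![t, 1; -1, 0])) := by rw [e1, mul_one]
      _ = (h⁻¹).1 * (h.1 * s.1 * !![t, 1; -1, 0]) := by rw [hT, mul_assoc s.1]
      _ = _ := by rw [← mul_assoc, ← mul_assoc, Units.inv_mul, one_mul]
  have hCm : C.1 = s.1 * (!![t, 1; -1, 0] * B') * (s⁻¹).1 := by
    rw [hC, Units.val_mul, hBm, ← mul_assoc, ← mul_assoc, hkinv]
    simp only [mul_assoc]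
  have hCdet : C.1.det = ν := by
    rw [hCm, Matrix.det_mul, Matrix.det_mul, Matrix.det_mul, hBd, Matrix.det_fin_two_of]
    linear_combination ν * hsdet
  have hCtr : C.1.trace = a := by
    rw [hCm, Matrix.trace_mul_cycle, Units.inv_mul, one_mul, Matrix.trace_fin_two]
    simp [B', Matrix.mul_apply, Fin.sum_univ_two]
    ring
  have hCns : NonScalar C.1 := nonScalar_of_irred (by rw [hCdet, hCtr]; exact hA)
  obtain ⟨R, hR⟩ := exists_similar hCns hAns hCtr hCdet
  refine ⟨S, R, ?_⟩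
  rw [← hS]
  have : R * A⁻¹ * R⁻¹ = C⁻¹ := by
    rw [hR, _root_.mul_inv_rev, _root_.mul_inv_rev, inv_inv, mul_assoc]
  rw [this, hC, _root_.mul_inv_rev, inv_inv, mul_inv_cancel_left]

end Cfsg.Agent.Lib.PSp4Class
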