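import Cfsg.Agent.Lib.PSp4Class.Elements

/-!
A noncentral element of `Sp₄` has, for some pair of opposite Lagrangians, a compression of
determinant one, avoiding trace zero in characteristic two.
-/

set_option autoImplicit false
set_option linter.unusedSectionVars false

namespace Cfsg.Agent.Lib.PSp4Class

open Matrix

variable {F : Type*} [Field F]

/-- The compression. -/
def bP (G : Sp4 F) : Matrix (Fin 2) (Fin 2) F := G.1.toBlocks₁₁

/-- The lower left block. -/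
def bQ (G : Sp4 F) : Matrix (Fin 2) (Fin 2) F := G.1.toBlocks₂₁

theorem mul_blocks (G H : Sp4 F) :
    bP (G * H) = bP G * bP H + G.1.toBlocks₁₂ * bQ H ∧ bQ (G * H) = bQ G * bP H + G.1.toBlocks₂₂ * bQ H := by
  have e : (G * H).1 = G.1 * H.1 := rfl
  rw [← G.1.fromBlocks_toBlocks, ← H.1.fromBlocks_toBlocks, fromBlocks_multiply] at e
  simp only [bP, bQ, e, toBlocks_fromBlocks₁₁, toBlocks_fromBlocks₂₁]
  exact ⟨trivial, trivial⟩

theorem pq_symm (G : Sp4 F) : (bP G)ᵀ * bQ G = (bQ G)ᵀ * bP G := by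
  have h := SymplecticGroup.mem_iff'.1 G.2
  rw [← G.1.fromBlocks_toBlocks] at h
  simp only [Matrix.J, fromBlocks_transpose, fromBlocks_multiply, fromBlocks_inj, Matrix.mul_zero, Matrix.mul_one,
    Matrix.mul_neg, Matrix.neg_mul, zero_add, add_zero] at h
  have h11 := h.1
  rw [← sub_eq_add_neg, sub_eq_zero] at h11
  exact h11.symm

theorem decomp (G : Sp4 F) (h : GL (Fin 2) F) (hh : bP G = h.1) :
    ∃ (Y : Matrix (Fin 2) (Fin 2) F) (hY : Yᵀ = Y) (X : Matrix (Fin 2) (Fin 2) F) (hX : Xᵀ = X),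
      G = Lo Y hY * Dm h * Up X hX := by
  have hs := pq_symm G
  rw [hh] at hs
  have hY : (bQ G * (h⁻¹).1)ᵀ = bQ G * (h⁻¹).1 := by
    calc (bQ G * (h⁻¹).1)ᵀ = ((h⁻¹).1)ᵀ * (bQ G)ᵀ * h.1 * (h⁻¹).1 := by
          rw [transpose_mul, mul_assoc _ h.1, Units.mul_inv, mul_one]
      _ = ((h⁻¹).1)ᵀ * h.1ᵀ * bQ G * (h⁻¹).1 := by rw [mul_assoc ((h⁻¹).1)ᵀ, ← hs, ← mul_assoc]
      _ = _ := by rw [inv_val_mul, Matrix.one_mul]
  set U := (Dm h)⁻¹ * (Lo _ hY)⁻¹ * G with hU
  have hG : G = Lo _ hY * Dm h * U := by rw [hU]; simp [← mul_assoc]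
  have hm := congrArg (fun z : Sp4 F => z.1) hG
  simp only [Submonoid.coe_mul] at hm
  rw [← G.1.fromBlocks_toBlocks, ← U.1.fromBlocks_toBlocks] at hm
  simp only [Lo, Dm_val, fromBlocks_multiply, Matrix.mul_zero, Matrix.zero_mul, add_zero, zero_add,
    Matrix.one_mul, fromBlocks_inj] at hm
  obtain ⟨h11, -, h21, -⟩ := hm
  rw [show G.1.toBlocks₁₁ = h.1 from hh] at h11
  have ha : U.1.toBlocks₁₁ = 1 := by
    have := congrArg (fun M => (h⁻¹).1 * M) h11
    rwa [← mul_assoc, Units.inv_mul, Matrix.one_mul, eq_comm] at this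
  have hc : U.1.toBlocks₂₁ = 0 := by
    rw [ha, Matrix.mul_one, mul_assoc (bQ G), Units.inv_mul, mul_one] at h21
    have h' : ((h⁻¹).1)ᵀ * U.1.toBlocks₂₁ = 0 := left_eq_add.1 h21
    have := congrArg (fun M => h.1ᵀ * M) h'
    rwa [← mul_assoc, mul_inv_valT, Matrix.one_mul, Matrix.mul_zero] at this
  obtain ⟨a, S, hS, haS⟩ := Forms.SpParabolic.exists_mkSp U hc
  refine ⟨_, hY, S.1, S.2, hG.trans ?_⟩
  congr 1
  rw [← hS]
  refine Subtype.ext ?_
  show fromBlocks a.1 (a.1 * S.1) 0 _ = fromBlocks 1 S.1 0 1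
  have ha1 : a = 1 := Units.ext (haS.trans ha)
  subst ha1
  simp

theorem conj_Up (G : Sp4 F) (X : Matrix (Fin 2) (Fin 2) F) (hX : Xᵀ = X) :
    bP ((Up X hX)⁻¹ * G * Up X hX) = bP G - X * bQ G ∧ bQ ((Up X hX)⁻¹ * G * Up X hX) = bQ G := by
  rw [Up_inv]
  have h1 := mul_blocks (Up (-X) (by rw [transpose_neg, hX]) * G) (Up X hX)
  have h2 := mul_blocks (Up (-X) (by rw [transpose_neg, hX])) G
  refine ⟨h1.1.trans ?_, h1.2.trans ?_⟩
  · rw [h2.1]; simp [bP, bQ, Up, sub_eq_add_neg]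
  · rw [h2.2]; simp [bP, bQ, Up]

theorem conj_Dm (G : Sp4 F) (S : GL (Fin 2) F) :
    bP ((Dm S)⁻¹ * G * Dm S) = (S⁻¹).1 * bP G * S.1 ∧ bQ ((Dm S)⁻¹ * G * Dm S) = S.1ᵀ * bQ G * S.1 := by
  rw [← map_inv]
  have h1 := mul_blocks (Dm S⁻¹ * G) (Dm S)
  have h2 := mul_blocks (Dm S⁻¹) G
  refine ⟨h1.1.trans ?_, h1.2.trans ?_⟩
  · rw [h2.1]; simp [bP, bQ, Dm_val, -map_inv]
  · rw [h2.2]; simp [bP, bQ, Dm_val, -map_inv]

/-- The goal. -/
def Tgt (G : Sp4 F) : Prop :=
  ∃ K : Sp4 F, (bP (K⁻¹ * G * K)).det = 1 ∧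
    ((2 : F) ≠ 0 ∨ (bP (K⁻¹ * G * K)).trace ≠ 0 ∨ bP (K⁻¹ * G * K) = 1)

theorem Tgt.of_conj {G K : Sp4 F} (h : Tgt (K⁻¹ * G * K)) : Tgt G := by
  obtain ⟨L, hL⟩ := h
  refine ⟨K * L, ?_⟩
  rwa [show (K * L)⁻¹ * G * (K * L) = L⁻¹ * (K⁻¹ * G * K) * L by group]

theorem tgt_of_symm {G : Sp4 F} {X : Matrix (Fin 2) (Fin 2) F} (hX : Xᵀ = X)
    (h1 : (bP G - X * bQ G).det = 1)
    (h2 : (2 : F) ≠ 0 ∨ (bP G - X * bQ G).trace ≠ 0 ∨ bP G - X * bQ G = 1) : Tgt G := by
  refine ⟨Up X hX, ?_⟩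
  rw [(conj_Up G X hX).1]
  exact ⟨h1, h2⟩

theorem det_ne_zero (G : Sp4 F) : G.1.det ≠ 0 := by
  rw [SymplecticGroup.det_eq_one G.2]; exact one_ne_zero

/-- Lower left block with vanishing second column. -/
theorem tgt_rank_one_aux {G : Sp4 F} (h01 : bQ G 0 1 = 0) (h11 : bQ G 1 1 = 0)
    (hne : bQ G 0 0 ≠ 0 ∨ bQ G 1 0 ≠ 0) : Tgt G := by
  set P := bP G
  set Q := bQ G
  have hcol : P 0 1 ≠ 0 ∨ P 1 1 ≠ 0 := by
    by_contra h
    simp only [not_or, not_not] at h
    refine det_ne_zero G (Matrix.det_eq_zero_of_column_eq_zero (Sum.inl 1) fun i => ?_)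
    rcases i with i | i <;> fin_cases i
    · exact h.1
    · exact h.2
    · exact h01
    · exact h11
  have hsurj : ∀ A C : F, ∃ X : Matrix (Fin 2) (Fin 2) F, Xᵀ = X ∧
      P - X * Q = !![A, P 0 1; C, P 1 1] := by
    intro A C
    have key : ∀ x y z : F, P 0 0 - (x * Q 0 0 + y * Q 1 0) = A → P 1 0 - (y * Q 0 0 + z * Q 1 0) = C →
        ∃ X : Matrix (Fin 2) (Fin 2) F, Xᵀ = X ∧ P - X * Q = !![A, P 0 1; C, P 1 1] := by
      intro x y z e1 e2
      refine ⟨!![x, y; y, z], by ext i j; fin_cases i <;> fin_cases j <;> rfl, ?_⟩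
      ext i j
      fin_cases i <;> fin_cases j <;> simp [Matrix.mul_apply, Matrix.vecMul, dotProduct, Fin.sum_univ_two, h01, h11, e1, e2]
    rcases eq_or_ne (Q 0 0) 0 with h0 | h0
    · have hr := hne.resolve_left (not_not.2 h0)
      refine key 0 ((P 0 0 - A) / Q 1 0) ((P 1 0 - C) / Q 1 0) ?_ ?_ <;> rw [h0] <;> field_simp <;> ring
    · refine key ((P 0 0 - A - ((P 1 0 - C) / Q 0 0) * Q 1 0) / Q 0 0) ((P 1 0 - C) / Q 0 0) 0 ?_ ?_ <;>
        field_simp <;> ring
  rcases eq_or_ne (P 0 1) 0 with h0 | h0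
  · have hp := hcol.resolve_left (not_not.2 h0)
    obtain ⟨X, hX, hXe⟩ := hsurj (1 / P 1 1) 0
    refine tgt_of_symm hX ?_ ?_
    · rw [hXe, det_fin_two_of, h0]; field_simp; ring
    · rw [hXe, trace_fin_two_of]
      by_cases ht : 1 / P 1 1 + P 1 1 = 0
      · by_cases h2 : (2 : F) = 0
        · refine Or.inr (Or.inr ?_)
          have hsq : (P 1 1 - 1) * (P 1 1 - 1) = 0 := by
            field_simp at ht
            linear_combination ht - P 1 1 * h2
          have h1 : P 1 1 = 1 := sub_eq_zero.1 (mul_self_eq_zero.1 hsq)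
          rw [h0, h1, div_one, Matrix.one_fin_two]
        · exact Or.inl h2
      · exact Or.inr (Or.inl ht)
  · obtain ⟨X, hX, hXe⟩ := hsurj (3 - P 1 1) (((3 - P 1 1) * P 1 1 - 1) / P 0 1)
    refine tgt_of_symm hX ?_ ?_
    · rw [hXe, det_fin_two_of]; field_simp; ring
    · rw [hXe, trace_fin_two_of]
      by_cases h2 : (2 : F) = 0
      · exact Or.inr (Or.inl (fun e => one_ne_zero (by linear_combination e - h2)))
      · exact Or.inl h2

theorem tgt_rank_one {G : Sp4 F} (hd : (bQ G).det = 0) (hne : bQ G ≠ 0) : Tgt G := by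
  set Q := bQ G with hQ
  by_cases hcol : Q 0 0 = 0 ∧ Q 1 0 = 0
  · obtain ⟨s, hs⟩ := exists_GL (show (!![0, -1; 1, 0] : Matrix (Fin 2) (Fin 2) F).det ≠ 0 by simp [det_fin_two_of])
    refine Tgt.of_conj (K := Dm s) (tgt_rank_one_aux ?_ ?_ ?_) <;> rw [(conj_Dm G s).2, hs, ← hQ]
    · simp [Matrix.mul_apply, Fin.sum_univ_two, hcol.1, hcol.2]
    · simp [Matrix.mul_apply, Fin.sum_univ_two, hcol.1, hcol.2]
    · by_contra h
      simp [Matrix.mul_apply, Fin.sum_univ_two, hcol.1, hcol.2] at h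
      exact hne (by ext i j; fin_cases i <;> fin_cases j <;> simp [hcol.1, hcol.2, h.1, h.2])
  · rw [Matrix.det_fin_two] at hd
    obtain ⟨c, hc0, hc1⟩ : ∃ c, Q 0 0 * c + Q 0 1 = 0 ∧ Q 1 0 * c + Q 1 1 = 0 := by
      rcases eq_or_ne (Q 0 0) 0 with h0 | h0
      · have h1 : Q 1 0 ≠ 0 := fun h => hcol ⟨h0, h⟩
        have h01 : Q 0 1 = 0 := by
          have : Q 0 1 * Q 1 0 = 0 := by linear_combination -hd + Q 1 1 * h0
          exact (mul_eq_zero.1 this).resolve_right h1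
        exact ⟨-Q 1 1 / Q 1 0, by rw [h0, h01]; ring, by field_simp; ring⟩
      · exact ⟨-Q 0 1 / Q 0 0, by field_simp; ring, by field_simp; linear_combination hd⟩
    obtain ⟨s, hs⟩ := exists_GL (show (!![1, c; 0, 1] : Matrix (Fin 2) (Fin 2) F).det ≠ 0 by simp [det_fin_two_of])
    refine Tgt.of_conj (K := Dm s) (tgt_rank_one_aux ?_ ?_ ?_) <;> rw [(conj_Dm G s).2, hs, ← hQ]
    · simp [Matrix.mul_apply, Fin.sum_univ_two]
      linear_combination hc0
    · simp [Matrix.mul_apply, Fin.sum_univ_two]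
      linear_combination c * hc0 + hc1
    · by_contra h
      simp [Matrix.mul_apply, Fin.sum_univ_two] at h
      exact hcol ⟨h.1, by have := h.2; rw [h.1] at this; simpa using this⟩

theorem tgt_invertible [Fintype F] (h3 : 3 ≤ Fintype.card F) {G : Sp4 F} (hd : (bQ G).det ≠ 0)
    (h : (2 : F) ≠ 0 ∨ bQ G 0 0 ≠ 0) : Tgt G := by
  classical
  obtain ⟨u, hu⟩ := exists_GL hd
  set d := 1 / (bQ G).det
  have hX : ∀ m : F, (bP G * (u⁻¹).1 - !![m, 0; 0, d / m])ᵀ = bP G * (u⁻¹).1 - !![m, 0; 0, d / m] := fun m => by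
    have hs := pq_symm G
    rw [← hu] at hs
    have e : (bP G * (u⁻¹).1)ᵀ = bP G * (u⁻¹).1 := by
      calc (bP G * (u⁻¹).1)ᵀ = ((u⁻¹).1)ᵀ * ((bP G)ᵀ * u.1) * (u⁻¹).1 := by
            rw [transpose_mul, mul_assoc _ ((bP G)ᵀ * u.1), mul_assoc (bP G)ᵀ, Units.mul_inv, mul_one]
        _ = ((u⁻¹).1)ᵀ * u.1ᵀ * bP G * (u⁻¹).1 := by rw [hs, ← mul_assoc]
        _ = _ := by rw [inv_val_mul, Matrix.one_mul]
    rw [transpose_sub, e]
    congr 1
    ext i j; fin_cases i <;> fin_cases j <;> rfl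
  have hval : ∀ m : F, bP G - (bP G * (u⁻¹).1 - !![m, 0; 0, d / m]) * bQ G = !![m, 0; 0, d / m] * bQ G := fun m => by
    rw [sub_mul, mul_assoc (bP G), ← hu, Units.inv_mul, mul_one, sub_sub_cancel]
  have hdet : ∀ m : F, m ≠ 0 → (!![m, 0; 0, d / m] * bQ G).det = 1 := fun m hm => by
    rw [det_mul, det_fin_two_of]; simp only [d]; field_simp; ring
  have htr : ∀ m : F, (!![m, 0; 0, d / m] * bQ G).trace = m * bQ G 0 0 + d / m * bQ G 1 1 := fun m => by
    simp [Matrix.trace_fin_two, Matrix.mul_apply, Matrix.vecMul, dotProduct, Fin.sum_univ_two]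
  obtain ⟨m, hm0, hm⟩ : ∃ m : F, m ≠ 0 ∧ ((2 : F) ≠ 0 ∨ m * bQ G 0 0 + d / m * bQ G 1 1 ≠ 0) := by
    by_cases h2 : (2 : F) = 0
    · have hq := h.resolve_left (not_not.2 h2)
      obtain ⟨c, hc⟩ : ∃ c : F, c ∉ ({0, 1} : Finset F) := by
        by_contra hall
        simp only [not_exists, not_not] at hall
        have := Finset.card_le_card (fun c _ => hall c : (Finset.univ : Finset F) ⊆ {0, 1})
        rw [Finset.card_univ] at this
        exact absurd (this.trans Finset.card_le_two) (by omega)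
      simp only [Finset.mem_insert, Finset.mem_singleton, not_or] at hc
      by_contra hcon
      simp only [not_exists, not_and, not_or, not_not] at hcon
      have e1 := (hcon 1 one_ne_zero).2
      have e2 := (hcon c hc.1).2
      field_simp at e2
      have e2' := (div_eq_zero_iff.1 e2).resolve_right hc.1
      rw [one_mul, div_one] at e1
      have : bQ G 0 0 * ((c - 1) * (c - 1)) = 0 := by
        linear_combination e2' - e1 - bQ G 0 0 * (c - 1) * h2
      exact hc.2 (sub_eq_zero.1 (mul_self_eq_zero.1 ((mul_eq_zero.1 this).resolve_left hq)))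
    · exact ⟨1, one_ne_zero, Or.inl h2⟩
  refine tgt_of_symm (hX m) ?_ ?_
  · rw [hval]; exact hdet m hm0
  · rw [hval]
    rcases hm with hm | hm
    · exact Or.inl hm
    · exact Or.inr (Or.inl (by rw [htr]; exact hm))

/-- The element mixing the second hyperbolic pair. -/
def Kel (r p : F) (hp : p ≠ 0) : Sp4 F :=
  ⟨fromBlocks !![1, 0; 0, r] !![0, 0; 0, -p⁻¹] !![0, 0; 0, p] !![1, 0; 0, 0], by
    rw [SymplecticGroup.mem_iff']
    simp only [Matrix.J, fromBlocks_transpose, fromBlocks_multiply, fromBlocks_inj]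
    refine ⟨?_, ?_, ?_, ?_⟩ <;> ext i j <;> fin_cases i <;> fin_cases j <;>
      simp [Matrix.mul_apply, Fin.sum_univ_two, Matrix.one_apply, hp] <;> ring⟩

theorem apply_basis (G : Sp4 F) (i : Fin 2 ⊕ Fin 2) : G.1 *ᵥ Pi.single i 1 = fun k => G.1 k i := by
  funext k; simp

theorem conj_mulVec {K G : Sp4 F} {v : Fin 2 ⊕ Fin 2 → F} (hK : K.1 *ᵥ Pi.single (Sum.inl 0) 1 = v) :
    K.1 *ᵥ ((K⁻¹ * G * K).1 *ᵥ Pi.single (Sum.inl 0) 1) = G.1 *ᵥ v := by
  rw [Matrix.mulVec_mulVec, ← Submonoid.coe_mul, mul_assoc K⁻¹, mul_inv_cancel_left, Submonoid.coe_mul,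
    ← Matrix.mulVec_mulVec, hK]

theorem scalar_of_Q_zero {G : Sp4 F} (h : ∀ K : Sp4 F, bQ (K⁻¹ * G * K) = 0) :
    G ∈ Subgroup.center (Sp4 F) := by
  classical
  have hfirst : ∀ H : Sp4 F, (∀ K : Sp4 F, bQ (K⁻¹ * H * K) = 0) →
      H.1 *ᵥ Pi.single (Sum.inl 0) 1 = bP H 0 0 • Pi.single (Sum.inl 0) 1 := by
    intro H hH
    have hQ : bQ H = 0 := by simpa using hH 1
    set K := Kel (0 : F) 1 one_ne_zero
    set H' := K⁻¹ * H * K
    have e : K * H' = H * K := by simp [H', ← mul_assoc]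
    have e1 := congrArg bP e
    have e2 := congrArg bQ e
    rw [(mul_blocks K H').1, (mul_blocks H K).1, show bQ H' = 0 from hH K] at e1
    rw [(mul_blocks K H').2, (mul_blocks H K).2, show bQ H' = 0 from hH K, hQ] at e2
    have a := congrFun (congrFun e1 1) 0
    simp [K, Kel, bP, bQ, Matrix.mul_apply, Matrix.vecMul, dotProduct, Fin.sum_univ_two] at a
    rw [apply_basis]
    funext k
    rcases k with k | k <;> fin_cases k
    · simp [bP, toBlocks₁₁]
    · simp only [Fin.mk_one, Pi.smul_apply, Pi.single_eq_of_ne (show Sum.inl (1 : Fin 2) ≠ Sum.inl 0 by simp),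
        smul_zero]
      simp only [bP, toBlocks₁₁, Matrix.of_apply] at a
      exact a.symm
    · simpa [bQ, toBlocks₂₁] using congrFun (congrFun hQ 0) 0
    · simpa [bQ, toBlocks₂₁] using congrFun (congrFun hQ 1) 0
  have heig : ∀ v : Fin 2 ⊕ Fin 2 → F, v ≠ 0 → ∃ c : F, G.1 *ᵥ v = c • v := by
    intro v hv
    obtain ⟨K, hK⟩ := Symplectic.exists_sp_mulVec_eq (x := Pi.single (Sum.inl 0) (1 : F))
      (by simp) hv
    refine ⟨bP (K⁻¹ * G * K) 0 0, ?_⟩
    have := hfirst (K⁻¹ * G * K) fun L => by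
      rw [show L⁻¹ * (K⁻¹ * G * K) * L = (K * L)⁻¹ * G * (K * L) by group]; exact h _
    rw [← conj_mulVec (G := G) hK, this, Matrix.mulVec_smul, hK]
  obtain ⟨c, hc⟩ := heig (fun _ => 1) (fun e => one_ne_zero (congrFun e (Sum.inl 0)))
  choose d hd using fun i => heig (Pi.single i 1) (by simp)
  have hall : ∀ i, d i = c := by
    intro i
    rw [show (fun _ => (1 : F)) = ∑ k, Pi.single k (1 : F) from (Finset.univ_sum_single _).symm,
      Matrix.mulVec_sum, Finset.smul_sum] at hc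
    have := congrFun hc i
    simp only [hd, Finset.sum_apply, Pi.smul_apply, Pi.single_apply, smul_eq_mul, mul_ite, mul_one, mul_zero,
      Finset.sum_ite_eq, Finset.mem_univ, if_true] at this
    exact this
  have hG : G.1 = c • 1 := by
    refine Matrix.ext fun k i => ?_
    have := congrFun (hd i) k
    rw [hall, apply_basis] at this
    simp [this, Pi.single_apply, Matrix.one_apply]
  have hc2 : c * c = 1 := by
    have h' := SymplecticGroup.mem_iff'.1 G.2
    rw [hG] at h'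
    have := congrFun (congrFun h' (Sum.inr (0 : Fin 2))) (Sum.inl 0)
    simp [Matrix.J] at this
    linear_combination this
  rw [Symplectic.mem_center_sp_iff, hG]
  rcases mul_self_eq_one_iff.1 hc2 with rfl | rfl
  · exact Or.inl (one_smul _ _)
  · exact Or.inr (by rw [neg_smul, one_smul])

theorem q00_form (G : Sp4 F) : Symplectic.stdForm 2 F (Pi.single (Sum.inl 0) 1)
    (G.1 *ᵥ Pi.single (Sum.inl 0) 1) = -bQ G 0 0 := by
  rw [apply_basis, Symplectic.stdForm_apply, Fin.sum_univ_two]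
  simp [bQ, toBlocks₂₁]

theorem conj_form (K G : Sp4 F) (v : Fin 2 ⊕ Fin 2 → F) :
    Symplectic.stdForm 2 F (K.1 *ᵥ v) (G.1 *ᵥ (K.1 *ᵥ v)) =
      Symplectic.stdForm 2 F v ((K⁻¹ * G * K).1 *ᵥ v) := by
  conv_rhs => rw [← Symplectic.mem_sp_iff.1 K.2]
  congr 1
  rw [Matrix.mulVec_mulVec, Matrix.mulVec_mulVec, ← Submonoid.coe_mul, ← Submonoid.coe_mul, mul_assoc K⁻¹,
    mul_inv_cancel_left]

theorem J_quad (G : Sp4 F) (v w : Fin 2 ⊕ Fin 2 → F) :
    v ⬝ᵥ ((Matrix.J (Fin 2) F * G.1) *ᵥ w) = Symplectic.stdForm 2 F v (G.1 *ᵥ w) := by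
  rw [Symplectic.stdForm_eq_dot, Matrix.mulVec_mulVec]

/-- Characteristic two, the form `B(v, Gv)` vanishing. -/
theorem tgt_alternating (h2 : (2 : F) = 0) {G : Sp4 F}
    (hB : ∀ v, Symplectic.stdForm 2 F v (G.1 *ᵥ v) = 0) : Tgt G := by
  classical
  set M := Matrix.J (Fin 2) F * G.1 with hM
  have hskew : Mᵀ = -M := by
    ext i j
    have h := hB (Pi.single i 1 + Pi.single j 1)
    have hi := hB (Pi.single i 1)
    have hj := hB (Pi.single j 1)
    simp only [Matrix.mulVec_add, map_add, LinearMap.add_apply, ← J_quad, ← hM] at h hi hj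
    simp only [single_one_dotProduct, Matrix.mulVec_single_one, Matrix.col_apply] at h hi hj
    rw [transpose_apply, Matrix.neg_apply]
    linear_combination h - hi - hj
  have hdiag : ∀ i, M i i = 0 := fun i => by
    have h := hB (Pi.single i 1)
    rw [← J_quad, ← hM, single_one_dotProduct, Matrix.mulVec_single_one] at h
    exact h
  have hsq : G.1 * G.1 = 1 := by
    have e1 : G.1ᵀ * Matrix.J (Fin 2) F = Matrix.J (Fin 2) F * G.1 := by
      rw [hM, transpose_mul, Matrix.J_transpose, Matrix.mul_neg, neg_inj] at hskew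
      exact hskew
    have e2 := SymplecticGroup.mem_iff'.1 G.2
    rw [e1, mul_assoc] at e2
    have := congrArg (fun X => Matrix.J (Fin 2) F * X) e2
    rw [← mul_assoc, Matrix.J_squared, neg_one_mul, neg_inj] at this
    exact this
  by_cases hone : G.1 = 1
  · refine ⟨1, ?_⟩
    rw [inv_one, one_mul, mul_one, bP, hone, ← fromBlocks_one, toBlocks_fromBlocks₁₁]
    exact ⟨det_one, Or.inr (Or.inr rfl)⟩
  obtain ⟨w, hw⟩ : ∃ w, G.1 *ᵥ w ≠ w := by
    by_contra h
    simp only [not_exists, not_not] at h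
    exact hone (Matrix.ext_iff_mulVec.2 fun v => by rw [h, Matrix.one_mulVec])
  have hneg : ∀ a : F, -a = a := fun a => by linear_combination -a * h2
  have hv : G.1 *ᵥ w + w ≠ 0 := fun e => hw (funext fun k => by
    have := congrFun e k
    simp only [Pi.add_apply, Pi.zero_apply] at this
    rw [eq_neg_of_add_eq_zero_left this, hneg])
  have hfix : G.1 *ᵥ (G.1 *ᵥ w + w) = G.1 *ᵥ w + w := by
    rw [Matrix.mulVec_add, Matrix.mulVec_mulVec, hsq, Matrix.one_mulVec, add_comm]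
  obtain ⟨K, hK⟩ := Symplectic.exists_sp_mulVec_eq (x := Pi.single (Sum.inl 0) (1 : F)) (by simp) hv
  refine Tgt.of_conj (K := K) ?_
  set H := K⁻¹ * G * K
  have hH0 : ∀ k, H.1 k (Sum.inl 0) = (Pi.single (Sum.inl 0) 1 : Fin 2 ⊕ Fin 2 → F) k := fun k => by
    have e := conj_mulVec (G := G) hK
    rw [hfix, ← hK] at e
    have hinj : Function.Injective (fun v => K.1 *ᵥ v) :=
      Matrix.mulVec_injective_of_isUnit ((Matrix.isUnit_iff_isUnit_det _).2 (isUnit_iff_ne_zero.2 (det_ne_zero K)))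
    have := congrFun (hinj e) k
    rwa [apply_basis] at this
  -- the same properties for the conjugate
  have hBH : ∀ v, Symplectic.stdForm 2 F v (H.1 *ᵥ v) = 0 := fun v => by rw [← conj_form]; exact hB _
  set N := Matrix.J (Fin 2) F * H.1 with hN
  have hNs : ∀ i j, N i j + N j i = 0 := fun i j => by
    have h := hBH (Pi.single i 1 + Pi.single j 1)
    have hi := hBH (Pi.single i 1)
    have hj := hBH (Pi.single j 1)
    simp only [Matrix.mulVec_add, map_add, LinearMap.add_apply, ← J_quad, ← hN] at h hi hj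
    simp only [single_one_dotProduct, Matrix.mulVec_single_one, Matrix.col_apply] at h hi hj
    linear_combination h - hi - hj
  have hNd : ∀ i, N i i = 0 := fun i => by
    have h := hBH (Pi.single i 1)
    rw [← J_quad, ← hN, single_one_dotProduct, Matrix.mulVec_single_one] at h
    exact h
  have hNtop : ∀ i j, N (Sum.inl i) j = -H.1 (Sum.inr i) j := fun i j => by
    simp [hN, Matrix.J, Matrix.mul_apply, Fintype.sum_sum_type, Matrix.one_apply]
  have hNbot : ∀ i j, N (Sum.inr i) j = H.1 (Sum.inl i) j := fun i j => by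
    simp [hN, Matrix.J, Matrix.mul_apply, Fintype.sum_sum_type, Matrix.one_apply]
  have hsqH : H.1 * H.1 = 1 := by
    rw [← Submonoid.coe_mul, show H * H = K⁻¹ * (G * G) * K by simp [H, mul_assoc],
      show G * G = 1 from Subtype.ext hsq, mul_one, inv_mul_cancel]
    rfl
  have q00 : H.1 (Sum.inr 0) (Sum.inl 0) = 0 := by rw [hH0]; simp
  have q10 : H.1 (Sum.inr 1) (Sum.inl 0) = 0 := by rw [hH0]; simp
  have q11 : H.1 (Sum.inr 1) (Sum.inl 1) = 0 := by
    have := hNd (Sum.inl 1); rwa [hNtop, neg_eq_zero] at this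
  have q01 : H.1 (Sum.inr 0) (Sum.inl 1) = 0 := by
    have := hNs (Sum.inl 0) (Sum.inl 1)
    rw [hNtop, hNtop, q10, neg_zero, add_zero, neg_eq_zero] at this
    exact this
  have r00 : H.1 (Sum.inl 0) (Sum.inr 0) = 0 := by have := hNd (Sum.inr 0); rwa [hNbot] at this
  have r11 : H.1 (Sum.inl 1) (Sum.inr 1) = 0 := by have := hNd (Sum.inr 1); rwa [hNbot] at this
  have p00 : H.1 (Sum.inl 0) (Sum.inl 0) = 1 := by rw [hH0]; simp
  have p10 : H.1 (Sum.inl 1) (Sum.inl 0) = 0 := by rw [hH0]; simp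
  have hs : ∀ i j, H.1 (Sum.inr i) (Sum.inr j) = H.1 (Sum.inl j) (Sum.inl i) := fun i j => by
    have := hNs (Sum.inl i) (Sum.inr j)
    rw [hNtop, hNbot] at this
    linear_combination -this
  have p11 : H.1 (Sum.inl 1) (Sum.inl 1) = 1 := by
    have := congrFun (congrFun hsqH (Sum.inl 1)) (Sum.inl 1)
    simp [Matrix.mul_apply, Fintype.sum_sum_type, Fin.sum_univ_two, p10, q01, q11, r11] at this
    rcases mul_self_eq_one_iff.1 this with h | h
    · exact h
    · rw [h, hneg]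
  have hP : bP H = !![1, H.1 (Sum.inl 0) (Sum.inl 1); 0, 1] := by
    ext i j; fin_cases i <;> fin_cases j <;> simp [bP, toBlocks₁₁, p00, p10, p11]
  set p := H.1 (Sum.inl 0) (Sum.inl 1) with hp
  rcases eq_or_ne p 0 with hp0 | hp0
  · refine ⟨1, ?_⟩
    rw [inv_one, one_mul, mul_one, hP, hp0, ← Matrix.one_fin_two]
    exact ⟨det_one, Or.inr (Or.inr rfl)⟩
  set r := H.1 (Sum.inl 0) (Sum.inr 1)
  set L := Kel r p hp0
  refine ⟨L, ?_⟩
  -- `H` fixes the two columns of `L`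
  have hfixL : bP (H * L) = bP L ∧ bQ (H * L) = bQ L := by
    refine ⟨(mul_blocks _ _).1.trans ?_, (mul_blocks _ _).2.trans ?_⟩ <;> ext i j <;> fin_cases i <;> fin_cases j <;>
      simp [L, Kel, bP, bQ, toBlocks₁₁, toBlocks₁₂, toBlocks₂₁, toBlocks₂₂, Matrix.mul_apply, Fin.sum_univ_two,
        p00, p10, p11, q00, q01, q10, q11, r00, r11, hs, ← hp] <;>
      linear_combination (p * r) * h2
  have e : bP (L⁻¹ * H * L) = 1 := by
    rw [mul_assoc, (mul_blocks _ _).1, hfixL.1, hfixL.2, ← (mul_blocks _ _).1, inv_mul_cancel, bP,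
      show (1 : Sp4 F).1 = 1 from rfl, ← fromBlocks_one, toBlocks_fromBlocks₁₁]
  rw [e]
  exact ⟨det_one, Or.inr (Or.inr rfl)⟩

/-- Every noncentral element has a target. -/
theorem tgt [Fintype F] (h3 : 3 ≤ Fintype.card F) {G : Sp4 F} (hG : G ∉ Subgroup.center (Sp4 F)) : Tgt G := by
  classical
  have hgen : ∀ H : Sp4 F, bQ H ≠ 0 → ((2 : F) ≠ 0 ∨ bQ H 0 0 ≠ 0) → Tgt H := fun H hne h => by
    by_cases hd : (bQ H).det = 0
    · exact tgt_rank_one hd hne
    · exact tgt_invertible h3 hd h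
  by_cases hB : ∀ v, Symplectic.stdForm 2 F v (G.1 *ᵥ v) = 0
  · by_cases h2 : (2 : F) = 0
    · exact tgt_alternating h2 hB
    · obtain ⟨K, hK⟩ : ∃ K : Sp4 F, bQ (K⁻¹ * G * K) ≠ 0 := by
        by_contra h
        simp only [not_exists, not_not] at h
        exact hG (scalar_of_Q_zero h)
      exact Tgt.of_conj (hgen _ hK (Or.inl h2))
  · simp only [not_forall] at hB
    obtain ⟨v, hv⟩ := hB
    obtain ⟨K, rfl⟩ := Symplectic.exists_sp_mulVec_eq (x := Pi.single (Sum.inl 0) (1 : F)) (y := v) (by simp)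
      (fun e => hv (by simp [e]))
    have hq : bQ (K⁻¹ * G * K) 0 0 ≠ 0 := fun e => hv (by rw [conj_form, q00_form, e, neg_zero])
    exact Tgt.of_conj (hgen _ (fun e => hq (by rw [e]; rfl)) (Or.inr hq))

end Cfsg.Agent.Lib.PSp4Class
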