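import Cfsg.Agent.Lib.Forms.SpParabolic
import Cfsg.Agent.Lib.Symplectic.Std
import Cfsg.Agent.Lib.PSp4Class.TwoByTwo

/-!
Block diagonal and block unitriangular elements of `Sp₄`, and the class of a Levi element.
-/

set_option autoImplicit false

namespace Cfsg.Agent.Lib.PSp4Class

open Matrix

variable {F : Type*} [Field F]

abbrev Sp4 (F : Type*) [Field F] := Matrix.symplecticGroup (Fin 2) F

/-- The block diagonal element. -/
noncomputable def Dm : GL (Fin 2) F →* Sp4 F where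
  toFun M := ⟨fromBlocks M.1 0 0 ((M⁻¹).1)ᵀ, by
    rw [Forms.SpParabolic.fromBlocks_mem_sp_iff]
    refine ⟨?_, by simp⟩
    rw [← transpose_mul, Units.inv_mul, transpose_one]⟩
  map_one' := Subtype.ext (by simp [← fromBlocks_one])
  map_mul' M N := Subtype.ext (by
    show fromBlocks _ _ _ _ = fromBlocks M.1 0 0 ((M⁻¹).1)ᵀ * fromBlocks N.1 0 0 ((N⁻¹).1)ᵀ
    rw [fromBlocks_multiply, _root_.mul_inv_rev]
    simp [Matrix.mul_inv_rev, transpose_mul])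

theorem Dm_val (M : GL (Fin 2) F) : (Dm M).1 = fromBlocks M.1 0 0 ((M⁻¹).1)ᵀ := rfl

/-- The upper unitriangular element. -/
def Up (X : Matrix (Fin 2) (Fin 2) F) (hX : Xᵀ = X) : Sp4 F :=
  ⟨fromBlocks 1 X 0 1, by
    rw [Forms.SpParabolic.fromBlocks_mem_sp_iff]; simp [hX]⟩

/-- The lower unitriangular element. -/
def Lo (Y : Matrix (Fin 2) (Fin 2) F) (hY : Yᵀ = Y) : Sp4 F :=
  ⟨fromBlocks 1 0 Y 1, by
    rw [SymplecticGroup.mem_iff']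
    simp [Matrix.J, fromBlocks_transpose, fromBlocks_multiply, hY]⟩

theorem symm_congr (S X : Matrix (Fin 2) (Fin 2) F) (hX : Xᵀ = X) : (Sᵀ * X * S)ᵀ = Sᵀ * X * S := by
  rw [transpose_mul, transpose_mul, transpose_transpose, hX, mul_assoc]

theorem symm_congr' (S X : Matrix (Fin 2) (Fin 2) F) (hX : Xᵀ = X) : (S * X * Sᵀ)ᵀ = S * X * Sᵀ := by
  rw [transpose_mul, transpose_mul, transpose_transpose, hX, mul_assoc]

theorem inv_val_mul (M : GL (Fin 2) F) : ((M⁻¹).1)ᵀ * M.1ᵀ = 1 := by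
  rw [← transpose_mul, Units.mul_inv, transpose_one]

theorem mul_inv_valT (M : GL (Fin 2) F) : M.1ᵀ * ((M⁻¹).1)ᵀ = 1 := by
  rw [← transpose_mul, Units.inv_mul, transpose_one]

theorem Lo_mul_Dm (S : GL (Fin 2) F) (Y : Matrix (Fin 2) (Fin 2) F) (hY : Yᵀ = Y) :
    Lo Y hY * Dm S = Dm S * Lo (S.1ᵀ * Y * S.1) (symm_congr _ _ hY) := by
  refine Subtype.ext ?_
  show fromBlocks 1 0 Y 1 * fromBlocks S.1 0 0 _ = fromBlocks S.1 0 0 _ * fromBlocks 1 0 _ 1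
  simp only [fromBlocks_multiply, Matrix.mul_zero, Matrix.zero_mul, add_zero, zero_add, Matrix.one_mul,
    Matrix.mul_one]
  rw [mul_assoc S.1ᵀ, ← mul_assoc ((S⁻¹).1)ᵀ, inv_val_mul, Matrix.one_mul]

theorem Up_mul_Dm (R : GL (Fin 2) F) (X : Matrix (Fin 2) (Fin 2) F) (hX : Xᵀ = X) :
    Up X hX * Dm R = Dm R * Up ((R⁻¹).1 * X * ((R⁻¹).1)ᵀ) (symm_congr' _ _ hX) := by
  refine Subtype.ext ?_
  show fromBlocks 1 X 0 1 * fromBlocks R.1 0 0 _ = fromBlocks R.1 0 0 _ * fromBlocks 1 _ 0 1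
  simp only [fromBlocks_multiply, Matrix.mul_zero, Matrix.zero_mul, add_zero, zero_add, Matrix.one_mul,
    Matrix.mul_one]
  rw [← mul_assoc R.1, ← mul_assoc R.1, Units.mul_inv, Matrix.one_mul]

/-- The congruence by `A` moves every symmetric matrix. -/
theorem exists_shift [Finite F] (A : Matrix (Fin 2) (Fin 2) F)
    (hA : ∀ X : Matrix (Fin 2) (Fin 2) F, Xᵀ = X → A * X * Aᵀ = X → X = 0) {Z : Matrix (Fin 2) (Fin 2) F}
    (hZ : Zᵀ = Z) : ∃ X : Matrix (Fin 2) (Fin 2) F, Xᵀ = X ∧ X = Z + A * X * Aᵀ := by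
  let φ : {X : Matrix (Fin 2) (Fin 2) F // Xᵀ = X} → {X : Matrix (Fin 2) (Fin 2) F // Xᵀ = X} :=
    fun X => ⟨X.1 - A * X.1 * Aᵀ, by rw [transpose_sub, symm_congr' A _ X.2, X.2]⟩
  haveI : Finite (Matrix (Fin 2) (Fin 2) F) := inferInstanceAs (Finite (Fin 2 → Fin 2 → F))
  have hφ : Function.Injective φ := by
    intro X Y h
    have h' : X.1 - A * X.1 * Aᵀ = Y.1 - A * Y.1 * Aᵀ := congrArg Subtype.val h
    refine Subtype.ext (sub_eq_zero.1 (hA _ (by rw [transpose_sub, X.2, Y.2]) ?_))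
    rw [mul_sub, sub_mul, eq_comm, ← sub_eq_zero]
    rw [← sub_eq_zero] at h'
    rw [← h']; abel
  obtain ⟨X, hX⟩ := (Finite.injective_iff_surjective.1 hφ) ⟨Z, hZ⟩
  exact ⟨X.1, X.2, sub_eq_iff_eq_add.1 (congrArg Subtype.val hX)⟩

variable [Finite F] {A : GL (Fin 2) F}

/-- Conjugacy `x ∼ x · u`. -/
theorem isConj_Dm_mul_Up (hA : ∀ X : Matrix (Fin 2) (Fin 2) F, Xᵀ = X → A.1 * X * A.1ᵀ = X → X = 0)
    {Z : Matrix (Fin 2) (Fin 2) F} (hZ : Zᵀ = Z) : IsConj (Dm A) (Dm A * Up Z hZ) := by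
  obtain ⟨X, hX, hXe⟩ := exists_shift A.1 hA (symm_congr' A.1 Z hZ)
  refine isConj_iff.2 ⟨Up X hX, mul_inv_eq_of_eq_mul (Subtype.ext ?_)⟩
  show fromBlocks 1 X 0 1 * fromBlocks A.1 0 0 _ = fromBlocks A.1 0 0 _ * fromBlocks 1 Z 0 1 * fromBlocks 1 X 0 1
  simp only [fromBlocks_multiply, Matrix.mul_zero, Matrix.zero_mul, add_zero, zero_add, Matrix.one_mul,
    Matrix.mul_one, fromBlocks_inj, true_and]
  refine ⟨?_, trivial⟩
  calc X * ((A⁻¹).1)ᵀ = (A.1 * Z * A.1ᵀ + A.1 * X * A.1ᵀ) * ((A⁻¹).1)ᵀ := by rw [← hXe]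
    _ = A.1 * Z * (A.1ᵀ * ((A⁻¹).1)ᵀ) + A.1 * X * (A.1ᵀ * ((A⁻¹).1)ᵀ) := by
        simp only [add_mul, mul_assoc]
    _ = _ := by rw [mul_inv_valT]; simp [add_comm]

/-- Conjugacy `x ∼ v · x`. -/
theorem isConj_Lo_mul_Dm (hA : ∀ Y : Matrix (Fin 2) (Fin 2) F, Yᵀ = Y → A.1ᵀ * Y * A.1 = Y → Y = 0)
    {Z : Matrix (Fin 2) (Fin 2) F} (hZ : Zᵀ = Z) : IsConj (Dm A) (Lo Z hZ * Dm A) := by
  obtain ⟨Y, hY, hYe⟩ := exists_shift A.1ᵀ (fun X h h' => hA X h (by rwa [transpose_transpose] at h'))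
    (Z := -(A.1ᵀ * Z * A.1)) (by rw [transpose_neg, symm_congr _ _ hZ])
  rw [transpose_transpose] at hYe
  refine isConj_iff.2 ⟨Lo Y hY, mul_inv_eq_of_eq_mul (Subtype.ext ?_)⟩
  show fromBlocks 1 0 Y 1 * fromBlocks A.1 0 0 _ = fromBlocks 1 0 Z 1 * fromBlocks A.1 0 0 _ * fromBlocks 1 0 Y 1
  simp only [fromBlocks_multiply, Matrix.mul_zero, Matrix.zero_mul, add_zero, zero_add, Matrix.one_mul,
    Matrix.mul_one, fromBlocks_inj, true_and, and_true]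
  have h2 : ((A⁻¹).1)ᵀ * Y = ((A⁻¹).1)ᵀ * (-(A.1ᵀ * Z * A.1) + A.1ᵀ * Y * A.1) := by rw [← hYe]
  rw [mul_add, mul_neg, mul_assoc A.1ᵀ, mul_assoc A.1ᵀ, ← mul_assoc ((A⁻¹).1)ᵀ, ← mul_assoc ((A⁻¹).1)ᵀ,
    inv_val_mul, Matrix.one_mul, Matrix.one_mul] at h2
  rw [h2]; abel

omit [Finite F] in
theorem Up_inv (Z : Matrix (Fin 2) (Fin 2) F) (hZ : Zᵀ = Z) :
    (Up Z hZ)⁻¹ = Up (-Z) (by rw [transpose_neg, hZ]) := by
  refine inv_eq_of_mul_eq_one_left (Subtype.ext ?_)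
  show fromBlocks 1 (-Z) 0 1 * fromBlocks 1 Z 0 1 = 1
  simp [fromBlocks_multiply, fromBlocks_one]

omit [Finite F] in
theorem isConj_inv' {G : Type*} [Group G] {x y : G} (h : IsConj x y) : IsConj x⁻¹ y⁻¹ := by
  obtain ⟨g, rfl⟩ := isConj_iff.1 h
  exact isConj_iff.2 ⟨g, by simp [mul_assoc]⟩

omit [Finite F] in
theorem isConj_swap {G : Type*} [Group G] (x y : G) : IsConj (x * y) (y * x) :=
  isConj_iff.2 ⟨y, by simp [mul_assoc]⟩

/-- The conditions on `A`. -/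
structure Good (A : GL (Fin 2) F) : Prop where
  upper : ∀ X : Matrix (Fin 2) (Fin 2) F, Xᵀ = X → A.1 * X * A.1ᵀ = X → X = 0
  lower : ∀ Y : Matrix (Fin 2) (Fin 2) F, Yᵀ = Y → A.1ᵀ * Y * A.1 = Y → Y = 0
  irred : ∀ r : F, r * r - A.1.trace * r + A.1.det ≠ 0
  trace_ne : A.1.trace ≠ 0

theorem isConj_Dm_inv (hG : Good A) : IsConj (Dm A⁻¹) (Dm A) := by
  have hns : NonScalar A.1 := nonScalar_of_irred hG.irred
  have hdet : A.1ᵀ.det ≠ 0 := by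
    rw [det_transpose]; exact fun e => hG.irred 0 (by rw [e]; ring)
  obtain ⟨At, hAt⟩ := exists_GL hdet
  have hnsT : NonScalar At.1 := by
    rw [hAt]; rcases hns with h | h | h
    · exact Or.inr (Or.inl h)
    · exact Or.inl h
    · exact Or.inr (Or.inr h)
  obtain ⟨S, hS⟩ := exists_similar hnsT hns (by rw [hAt, trace_transpose]) (by rw [hAt, det_transpose])
  refine (show IsConj (Dm A⁻¹) (Dm At) from isConj_iff.2 ⟨SymplecticGroup.symJ (Fin 2) F, ?_⟩).trans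
    (isConj_iff.2 ⟨Dm S, ?_⟩).symm
  · refine mul_inv_eq_of_eq_mul (Subtype.ext ?_)
    show Matrix.J (Fin 2) F * fromBlocks _ 0 0 _ = fromBlocks At.1 0 0 _ * Matrix.J (Fin 2) F
    rw [inv_inv, hAt, Matrix.coe_units_inv, Matrix.coe_units_inv, hAt, ← transpose_nonsing_inv,
      transpose_transpose]
    simp [Matrix.J, fromBlocks_multiply]
  · rw [← map_inv, ← map_mul, ← map_mul, hS]

/-- Every `v · D(h) · u` with `h` in the product of the two classes is a product of two conjugates of `x`. -/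
theorem exists_factor (hG : Good A) {Y X : Matrix (Fin 2) (Fin 2) F} (hY : Yᵀ = Y) (hX : Xᵀ = X)
    {h : GL (Fin 2) F} (hd : h.1.det = 1) (hh : h.1 = 1 ∨ (NonScalar h.1 ∧ h.1.trace ≠ 2)) :
    ∃ P Q : Sp4 F, Lo Y hY * Dm h * Up X hX = P * Q ∧ IsConj (Dm A) P ∧ IsConj (Dm A) Q := by
  obtain ⟨S, R, rfl⟩ := exists_product hG.irred hG.trace_ne hd hh
  refine ⟨Lo Y hY * Dm (S * A * S⁻¹), Dm (R * A⁻¹ * R⁻¹) * Up X hX, ?_, ?_, ?_⟩
  · rw [map_mul]; simp only [mul_assoc]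
  · rw [map_mul, map_mul, map_inv, ← mul_assoc, ← mul_assoc, Lo_mul_Dm S Y hY, mul_assoc (Dm S)]
    exact (isConj_Lo_mul_Dm hG.lower _).trans (isConj_iff.2 ⟨Dm S, rfl⟩)
  · obtain ⟨Z, hZ, e⟩ : ∃ Z, ∃ hZ : Zᵀ = Z,
        Dm (R * A⁻¹ * R⁻¹) * Up X hX = Dm R * (Dm A⁻¹ * Up Z hZ) * (Dm R)⁻¹ := by
      refine ⟨_, symm_congr' ((R⁻¹).1) X hX, ?_⟩
      rw [eq_mul_inv_iff_mul_eq, mul_assoc, Up_mul_Dm R X hX, ← mul_assoc, ← map_mul, inv_mul_cancel_right,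
        map_mul, mul_assoc]
    rw [e]
    refine IsConj.trans ?_ (isConj_iff.2 ⟨Dm R, rfl⟩)
    -- `x ∼ x⁻¹ ∼ (u⁻¹ x)⁻¹`
    have h1 : IsConj (Dm A) ((Up Z hZ)⁻¹ * Dm A) := by
      rw [Up_inv Z hZ]
      refine (isConj_Dm_mul_Up hG.upper (Z := -Z) (by rw [transpose_neg, hZ])).trans ?_
      exact isConj_swap _ _
    have h2 := isConj_inv' h1
    rw [_root_.mul_inv_rev, inv_inv, ← map_inv] at h2
    exact (isConj_Dm_inv hG).symm.trans h2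

end Cfsg.Agent.Lib.PSp4Class
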